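import Cfsg.Agent.Lib.S3298Fus.Fusion
import Cfsg.Agent.Lib.SylClasses.Model.Points
import Cfsg.Agent.Lib.McLTwoA8.Isolated
import Mathlib.GroupTheory.FixedPointFree
import Mathlib.GroupTheory.SpecificGroups.Alternating

/-!
The hypotheses of the theorem give the situation; in the isolated case the odd core is abelian and supplements
the centraliser; otherwise the conjugates in the centraliser are given explicitly.
-/

set_option autoImplicit false
set_option maxRecDepth 100000

namespace Cfsg.Agent.S3298Fus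

open SylClasses

universe u

/-- The renaming of the twelve points. -/
def ren : Fin 12 ≃ (Fin 6 × ZMod 2) ⊕ Fin 0 where
  toFun x := Sum.inl (⟨x.val / 2, by omega⟩, (x.val % 2 : ℕ))
  invFun q := q.elim (fun q => ⟨2 * q.1.val + q.2.val, by
    have := ZMod.val_lt q.2
    have e : q.2.val < 2 := this
    omega⟩) fun z => z.elim0
  left_inv := by decide +kernel
  right_inv q := by
    rcases q with q | z
    · exact (by decide +kernel : ∀ q : Fin 6 × ZMod 2,
        (Sum.inl (⟨(2 * q.1.val + q.2.val) / 2, by have : q.2.val < 2 := ZMod.val_lt q.2; omega⟩,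
          (((2 * q.1.val + q.2.val) % 2 : ℕ) : ZMod 2)) : (Fin 6 × ZMod 2) ⊕ Fin 0) = Sum.inl q) q
    · exact z.elim0

/-- The fixed-point-free involution of twelve points. -/
abbrev sig : Equiv.Perm (Fin 12) :=
  Equiv.swap 0 1 * Equiv.swap 2 3 * Equiv.swap 4 5 * Equiv.swap 6 7 * Equiv.swap 8 9 * Equiv.swap 10 11

theorem ren_sig : ren.permCongr sig = Model.beta (Fin 6) 0 := by
  refine Equiv.ext ?_
  decide +kernel

/-- Signed permutations as permutations of twelve points. -/
noncomputable def to12 : ↥W0 →* ↥(alternatingGroup (Fin 12) ⊓ Subgroup.centralizer ({sig} : Set (Equiv.Perm (Fin 12)))) :=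
  MonoidHom.codRestrict
    ((ren.symm.permCongrHom.toMonoidHom.comp (Equiv.Perm.sumCongrHom (Fin 6 × ZMod 2) (Fin 0))).comp
      ((Model.actHom.comp W0.subtype).prod 1))
    _ fun a => Subgroup.mem_inf.2 ⟨by
      show Equiv.Perm.sign (ren.symm.permCongr (Equiv.sumCongr (Model.act a.1) (1 : Equiv.Perm (Fin 0)))) = 1
      rw [Equiv.Perm.sign_permCongr, Equiv.Perm.sign_sumCongr, Model.sign_act, mem_W0.1 a.2, map_one, mul_one]
      rfl, by
      rw [Subgroup.mem_centralizer_singleton_iff]
      have hb : Equiv.sumCongr (Model.act a.1) (1 : Equiv.Perm (Fin 0)) * Model.beta (Fin 6) 0 =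
          Model.beta (Fin 6) 0 * Equiv.sumCongr (Model.act a.1) (1 : Equiv.Perm (Fin 0)) := by
        have h := congrArg Model.act (W.zz_central a.1)
        rw [show Model.act (a.1 * W.zz) = Model.act a.1 * Model.act W.zz from map_mul Model.actHom _ _,
          show Model.act (W.zz * a.1) = Model.act W.zz * Model.act a.1 from map_mul Model.actHom _ _] at h
        refine Equiv.ext fun q => ?_
        rcases q with q | z
        · exact congrArg Sum.inl (congrFun (congrArg (⇑) h) q)
        · exact z.elim0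
      show ren.symm.permCongr (Equiv.sumCongr (Model.act a.1) (1 : Equiv.Perm (Fin 0))) * sig =
        sig * ren.symm.permCongr (Equiv.sumCongr (Model.act a.1) (1 : Equiv.Perm (Fin 0)))
      rw [show sig = ren.symm.permCongr (Model.beta (Fin 6) 0) by rw [← ren_sig]; ext x; simp]
      show ren.symm.permCongrHom _ * ren.symm.permCongrHom _ = ren.symm.permCongrHom _ * ren.symm.permCongrHom _
      rw [← map_mul, ← map_mul, hb]⟩

theorem to12_apply (a : ↥W0) :
    (to12 a).1 = ren.symm.permCongr (Equiv.sumCongr (Model.act a.1) (1 : Equiv.Perm (Fin 0))) := rfl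

theorem to12_z0 : (to12 z0).1 = sig := by
  rw [to12_apply]
  refine Equiv.ext ?_
  decide +kernel

theorem to12_inj : Function.Injective to12 := by
  intro a b h
  have h1 := ren.symm.permCongr.injective ((to12_apply a).symm.trans ((congrArg Subtype.val h).trans (to12_apply b)))
  refine Subtype.ext (Model.act_injective (Equiv.ext fun q => ?_))
  exact Sum.inl_injective (congrFun (congrArg (⇑) h1) (Sum.inl q))

theorem to12_surj : Function.Surjective to12 := by
  intro g
  obtain ⟨hsgn, hcomm⟩ := Subgroup.mem_inf.1 g.2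
  rw [Subgroup.mem_centralizer_singleton_iff] at hcomm
  obtain ⟨a, ρ, he⟩ := Model.split (σ := ren.permCongrHom g.1) (by
    rw [← ren_sig]
    show _ * ren.permCongrHom sig = ren.permCongrHom sig * _
    rw [← map_mul, ← map_mul, hcomm])
  have hρ : ρ = 1 := Subsingleton.elim _ _
  subst hρ
  have hpar : W.par a = 0 := by
    have h1 : Equiv.Perm.sign (ren.permCongr g.1) = 1 := by
      rw [Equiv.Perm.sign_permCongr]; exact hsgn
    rw [show ren.permCongr g.1 = Equiv.sumCongr (Model.act a) 1 from he, Equiv.Perm.sign_sumCongr, Model.sign_act,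
      map_one, mul_one] at h1
    exact (by decide : ∀ b, Model.sgnBit b = 1 → b = 0) _ h1
  refine ⟨⟨a, mem_W0.2 hpar⟩, Subtype.ext ?_⟩
  rw [to12_apply, ← he]
  exact Equiv.ext fun x => by simp

/-- A swap with flips `b` on its two points. -/
def root (i j : Fin 6) (b : ZMod 2) : W6 := ⟨fun k => if k = i ∨ k = j then b else 0, Equiv.swap i j⟩

/-- The classes of the symplectic case are the roots. -/
theorem P7_iff {w : W6} (hw : w * w = 1) : Dat.P7 w ↔ w = W.zz ∨ ∃ i j b, i ≠ j ∧ w = root i j b := by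
  refine or_congr_right ⟨fun h => ?_, ?_⟩
  · obtain ⟨hp, hv⟩ := invol_facts hw
    obtain ⟨hc, hfix⟩ := h
    obtain ⟨i, j, hij, he⟩ := Finset.card_eq_two.1 hc
    have hi : w.p i ≠ i := by
      have h0 : i ∈ ({i, j} : Finset (Fin 6)) := Finset.mem_insert_self _ _
      rw [← he, Finset.mem_filter] at h0
      exact h0.2
    have hpi : w.p i = j := by
      have : w.p i ∈ ({i, j} : Finset (Fin 6)) :=
        he ▸ Finset.mem_filter.2 ⟨Finset.mem_univ _, fun e => hi (w.p.injective e)⟩
      rcases Finset.mem_insert.1 this with h | h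
      · exact absurd h hi
      · exact Finset.mem_singleton.1 h
    have hoff : ∀ k, k ≠ i → k ≠ j → w.p k = k := fun k h1 h2 => by
      by_contra h
      have : k ∈ ({i, j} : Finset (Fin 6)) := he ▸ Finset.mem_filter.2 ⟨Finset.mem_univ _, h⟩
      simp [h1, h2] at this
    refine ⟨i, j, w.v i, hij, W.ext (funext fun k => ?_) (Equiv.ext fun k => ?_)⟩
    · show w.v k = if k = i ∨ k = j then w.v i else 0
      split_ifs with h
      · rcases h with rfl | rfl
        · rfl
        · rw [← hpi, hv]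
      · push Not at h
        exact hfix k (hoff k h.1 h.2)
    · show w.p k = Equiv.swap i j k
      rcases eq_or_ne k i with rfl | h1
      · rw [Equiv.swap_apply_left, hpi]
      rcases eq_or_ne k j with rfl | h2
      · rw [Equiv.swap_apply_right, ← hpi, hp]
      rw [Equiv.swap_apply_of_ne_of_ne h1 h2, hoff k h1 h2]
  · rintro ⟨i, j, b, hij, rfl⟩
    exact (by decide +kernel : ∀ i j b, i ≠ j → Kcl 2 0 (root i j b)) i j b hij

variable {G : Type u} [Group G] [Finite G]

/-- The situation from the hypotheses. -/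
theorem exists_dat (α : G) (hα : orderOf α = 2)
    (hC : Nonempty (↥(Subgroup.centralizer ({α} : Set G)) ≃*
      ↥(alternatingGroup (Fin 12) ⊓ Subgroup.centralizer ({sig} : Set (Equiv.Perm (Fin 12)))))) :
    ∃ d : Dat G, d.t = α := by
  obtain ⟨e⟩ := hC
  let f : ↥W0 ≃* ↥(Subgroup.centralizer ({α} : Set G)) :=
    (MulEquiv.ofBijective to12 ⟨to12_inj, to12_surj⟩).trans e.symm
  set emb : ↥W0 →* G := (Subgroup.centralizer ({α} : Set G)).subtype.comp f.toMonoidHom with hemb
  have hinj : Function.Injective emb := Subtype.coe_injective.comp f.injective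
  -- the image of the all-flip is the central involution
  obtain ⟨a, ha⟩ := f.surjective ⟨α, Subgroup.mem_centralizer_singleton_iff.2 rfl⟩
  have hcent : ∀ b, b * a = a * b := fun b => f.injective (Subtype.ext (by
    rw [map_mul, map_mul, ha]
    exact (Subgroup.mem_centralizer_singleton_iff.1 (f b).2)))
  have ha1 : a ≠ 1 := fun h => by
    have h1 := congrArg Subtype.val ha
    rw [h, map_one] at h1
    rw [← show (1 : G) = α from h1, orderOf_one] at hα
    norm_num at hα
  have ha2 : a * a = 1 := f.injective (Subtype.ext (by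
    rw [map_mul, map_one, ha]
    show α * α = 1
    rw [← pow_two, ← hα, pow_orderOf_eq_one]))
  obtain ⟨σ, n, hn⟩ := invol_conj (congrArg Subtype.val ha2 : a.1 * a.1 = 1) (mem_W0.1 a.2)
  have hna : L' n = a := by
    have h1 : L' n = pm0 σ * a * (pm0 σ)⁻¹ := Subtype.ext hn.symm
    rw [h1, hcent, mul_inv_cancel_right]
  have hkey : ∀ n : Fin 64, n ≠ 0 → n ≠ 56 →
      ∃ k : Fin 24, gen k * L n ≠ L n * gen k ∨ W.pm (Equiv.swap 0 2) * L n ≠ L n * W.pm (Equiv.swap 0 2) := by
    decide +kernel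
  have h56 : n = 56 := by
    by_contra hne
    have hn0 : n ≠ 0 := by
      rintro rfl
      exact ha1 (hna.symm.trans (Subtype.ext (by decide +kernel)))
    obtain ⟨k, hk | hk⟩ := hkey n hn0 hne
    · exact hk (congrArg Subtype.val (show (⟨gen k, mem_W0.2 (gen_par k)⟩ : ↥W0) * L' n = L' n * ⟨gen k, _⟩ by
        rw [hna]; exact hcent _))
    · exact hk (congrArg Subtype.val (show pm0 (Equiv.swap 0 2) * L' n = L' n * pm0 (Equiv.swap 0 2) by
        rw [hna]; exact hcent _))
  have hz : emb z0 = α := by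
    rw [← L'_56, ← h56, hna]
    exact congrArg Subtype.val ha
  refine ⟨⟨emb, hinj, ?_⟩, hz⟩
  rw [hz, hemb, MonoidHom.range_comp, MonoidHom.range_eq_top.2 f.surjective, ← MonoidHom.range_eq_map,
    Subgroup.range_subtype]

/-- The parity kernel has no normal subgroup of odd order. -/
theorem odd_normal_eq_one {N : Subgroup ↥W0} (hN : N.Normal) (hodd : Odd (Nat.card ↥N)) {x : ↥W0} (hx : x ∈ N) :
    x = 1 := by
  have kill : ∀ y ∈ N, y * y = 1 → y = 1 := by
    intro y hy hy2
    have h1 : orderOf (⟨y, hy⟩ : ↥N) ∣ 2 := orderOf_dvd_of_pow_eq_one (Subtype.ext (by simpa [pow_two] using hy2))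
    have h2 : orderOf (⟨y, hy⟩ : ↥N) ∣ Nat.card ↥N := orderOf_dvd_natCard _
    rcases (Nat.dvd_prime Nat.prime_two).1 h1 with h | h
    · exact congrArg Subtype.val (orderOf_eq_one_iff.1 h)
    · rw [h] at h2
      exact absurd (even_iff_two_dvd.2 h2) (Nat.not_even_iff_odd.2 hodd)
  -- the commutators with the flips of two points are flips
  have hp : x.1.p = 1 := by
    refine Equiv.ext fun i => ?_
    by_contra hi
    replace hi : x.1.p i ≠ i := hi
    obtain ⟨j, hj1, hj2⟩ : ∃ j, j ≠ i ∧ j ≠ x.1.p i :=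
      (by decide : ∀ a b : Fin 6, ∃ j, j ≠ a ∧ j ≠ b) i (x.1.p i)
    set v : Fin 6 → ZMod 2 := Pi.single i 1 + Pi.single j 1 with hv
    let q : ↥W0 := ⟨W.fl v, mem_W0.2 (by simp [W.par, hv, Finset.sum_add_distrib]; decide)⟩
    have hmem : x * q * x⁻¹ * q⁻¹ ∈ N := by
      rw [show x * q * x⁻¹ * q⁻¹ = x * (q * x⁻¹ * q⁻¹) by group]
      exact N.mul_mem hx (hN.conj_mem _ (N.inv_mem hx) q)
    have he : (x * q * x⁻¹ * q⁻¹).1 = W.fl (v ∘ x.1.p.symm + v) := by
      show x.1 * W.fl v * x.1⁻¹ * (W.fl v)⁻¹ = _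
      rw [W.conj_fl, inv_eq_of_mul_eq_one_right (W.fl_sq v), ← W.fl_add]
    have h1 := congrArg Subtype.val (kill _ hmem (Subtype.ext (by
      show (x * q * x⁻¹ * q⁻¹).1 * (x * q * x⁻¹ * q⁻¹).1 = 1
      rw [he, W.fl_sq])))
    rw [he] at h1
    have h2 := congrFun (congrArg W.v h1) (x.1.p i)
    simp [hv, hj1.symm, hj2.symm, hi, hi.symm] at h2
  refine kill x hx (Subtype.ext ?_)
  show x.1 * x.1 = 1
  have e : x.1 = W.fl x.1.v := W.ext rfl hp
  rw [e, W.fl_sq]

/-- The three cases. -/
theorem main (α : G) (hα : orderOf α = 2)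
    (hC : Nonempty (↥(Subgroup.centralizer ({α} : Set G)) ≃*
      ↥(alternatingGroup (Fin 12) ⊓ Subgroup.centralizer ({sig} : Set (Equiv.Perm (Fin 12)))))) :
    (Cfsg.oddCore G ⊔ Subgroup.centralizer ({α} : Set G) = ⊤ ∧ IsMulCommutative ↥(Cfsg.oddCore G)) ∨
      (∃ d : Dat G, d.t = α ∧ ∀ a, d.Fused a ↔ a = z0 ∨ ∃ i j b, i ≠ j ∧ a.1 = root i j b) ∨
      ∃ d : Dat G, d.t = α ∧ ∀ a, d.Fused a ↔ a * a = 1 ∧ Dat.P27 a.1 := by
  obtain ⟨d, hd⟩ := exists_dat α hα hC
  rcases d.trichotomy with h | ⟨d', ht, h⟩ | ⟨d', ht, h⟩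
  · left
    subst hd
    have hiso : Cfsg.IsIsolated d.t := by
      intro g hg
      obtain ⟨s, hs⟩ := d.mem_range hg.eq.symm
      rw [← hs, h s ⟨g, hs.symm⟩]
    refine ⟨sup_comm _ _ |>.trans (McLTwoA8.sup_oddCore_of_isolated _ hα hiso), ?_⟩
    haveI : Fact (Nat.Prime 2) := ⟨Nat.prime_two⟩
    haveI hO : (Cfsg.oddCore G).Normal := FittingCores.pPrimeCore_normal 2
    have hodd : Odd (Nat.card ↥(Cfsg.oddCore G)) :=
      Nat.coprime_two_right.1 (FittingCores.pPrimeCore_coprime (G := G) 2)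
    have hfix : ∀ x ∈ Cfsg.oddCore G, d.t * x * d.t⁻¹ = x → x = 1 := by
      intro x hx hxt
      obtain ⟨s, rfl⟩ := d.mem_range (show x * d.t = d.t * x from (mul_inv_eq_iff_eq_mul.1 hxt).symm)
      rw [odd_normal_eq_one (N := (Cfsg.oddCore G).comap d.emb) (hO.comap _) ?_ hx, map_one]
      refine hodd.of_dvd_nat ?_
      exact Subgroup.card_dvd_of_injective ((d.emb.comp ((Cfsg.oddCore G).comap d.emb).subtype).codRestrict
        (Cfsg.oddCore G) fun y => y.2) fun y z e => Subtype.ext (d.inj (congrArg Subtype.val e))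
    let φ : ↥(Cfsg.oddCore G) →* ↥(Cfsg.oddCore G) :=
      { toFun := fun x => ⟨d.t * x.1 * d.t⁻¹, hO.conj_mem _ x.2 _⟩
        map_one' := by ext; simp
        map_mul' := fun x y => by ext; simp }
    have hφ : MonoidHom.FixedPointFree φ := fun x hx => Subtype.ext (hfix x.1 x.2 (congrArg Subtype.val hx))
    have h2 : Function.Involutive φ := fun x => Subtype.ext (by
      show d.t * (d.t * x.1 * d.t⁻¹) * d.t⁻¹ = x.1
      rw [show d.t * (d.t * x.1 * d.t⁻¹) * d.t⁻¹ = (d.t * d.t) * x.1 * (d.t * d.t)⁻¹ by group, d.t_sq, one_mul,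
        inv_one, mul_one])
    exact ⟨⟨fun x y => (hφ.commute_all_of_involutive h2 x y).eq⟩⟩
  · refine Or.inr (Or.inl ⟨d', ht.trans hd, fun a => ?_⟩)
    have hz : a = z0 ↔ a.1 = W.zz := Subtype.ext_iff
    rw [h, hz]
    constructor
    · rintro ⟨ha, hp⟩
      exact (P7_iff (congrArg Subtype.val ha)).1 hp
    · intro hp
      have ha : a.1 * a.1 = 1 := by
        rcases hp with hp | ⟨i, j, b, hij, hp⟩ <;> rw [hp]
        · exact W.fl_sq _
        · exact (by decide +kernel : ∀ i j b, i ≠ j → root i j b * root i j b = 1) i j b hij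
      exact ⟨Subtype.ext ha, (P7_iff ha).2 hp⟩
  · exact Or.inr (Or.inr ⟨d', ht.trans hd, h⟩)

end Cfsg.Agent.S3298Fus
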