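import Cfsg.Agent.Lib.S3298Fus.Select

/-!
An involution whose centraliser is the parity kernel of the signed permutations of six points: either it is
isolated or, up to the twist, its conjugates in the centraliser are one of two sets of classes.
-/

set_option autoImplicit false
set_option maxRecDepth 100000

namespace Cfsg.Agent.S3298Fus

open SylClasses

universe u

/-- The parity kernel as the centraliser of the image of the all-flip. -/
structure Dat (G : Type u) [Group G] where
  /-- the embedding -/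
  emb : ↥W0 →* G
  inj : Function.Injective emb
  range : emb.range = Subgroup.centralizer ({emb z0} : Set G)

namespace Dat

variable {G : Type u} [Group G] (d : Dat G)

/-- The involution. -/
abbrev t : G := d.emb z0

/-- Conjugacy to the involution. -/
def Fused (a : ↥W0) : Prop := ∃ g : G, g * d.t * g⁻¹ = d.emb a

theorem mem_range {y : G} (h : y * d.t = d.t * y) : ∃ s, d.emb s = y := by
  have : y ∈ d.emb.range := by
    rw [d.range]; exact Subgroup.mem_centralizer_singleton_iff.2 h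
  exact this

theorem t_sq : d.t * d.t = 1 := by
  rw [← map_mul, show z0 * z0 = 1 from Subtype.ext (W.fl_sq _), map_one]

theorem t_ne_one : d.t ≠ 1 := fun h => by
  have := d.inj (h.trans (map_one d.emb).symm)
  exact absurd (congrArg Subtype.val this) (by decide +kernel)

theorem fused_sq {a : ↥W0} (h : d.Fused a) : a * a = 1 := by
  obtain ⟨g, hg⟩ := h
  refine d.inj ?_
  rw [map_mul, map_one, ← hg, conj_mul, d.t_sq, mul_one, mul_inv_cancel]

theorem fused_conj (c a : ↥W0) : d.Fused (c * a * c⁻¹) ↔ d.Fused a := by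
  constructor
  · rintro ⟨g, hg⟩
    refine ⟨(d.emb c)⁻¹ * g, ?_⟩
    rw [mul_inv_rev, inv_inv, show (d.emb c)⁻¹ * g * d.t * (g⁻¹ * d.emb c) =
      (d.emb c)⁻¹ * (g * d.t * g⁻¹) * d.emb c by group, hg, map_mul, map_mul, map_inv]
    group
  · rintro ⟨g, hg⟩
    refine ⟨d.emb c * g, ?_⟩
    rw [map_mul, map_mul, map_inv, ← hg]
    group

theorem fused_one : ¬ d.Fused 1 := by
  rintro ⟨g, hg⟩
  rw [map_one, conj_eq_one_iff] at hg
  exact d.t_ne_one hg

theorem fused_z0 : d.Fused z0 := ⟨1, by simp⟩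

/-- Squares are not conjugate to the involution. -/
theorem not_fused_square (r : ↥W0) : ¬ d.Fused (r * r) := by
  rintro ⟨g, hg⟩
  have hc : g⁻¹ * d.emb r * g * d.t = d.t * (g⁻¹ * d.emb r * g) := by
    have ht : d.t = g⁻¹ * d.emb (r * r) * g := by rw [← hg]; group
    rw [ht, map_mul]
    group
  obtain ⟨s, hs⟩ := d.mem_range hc
  refine no_root s (d.inj ?_)
  rw [map_mul, hs]
  calc g⁻¹ * d.emb r * g * (g⁻¹ * d.emb r * g) = g⁻¹ * d.emb (r * r) * g := by rw [map_mul]; group
    _ = d.t := by rw [← hg]; group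

/-- A fused code is reached by a symmetry of the codes preserving the fused ones, induced by an element. -/
theorem exists_symmetry_conj {n : Fin 64} (h : d.Fused (L' n)) : ∃ φ : Fin 64 → Fin 64, Function.Bijective φ ∧
    (∀ a b, φ (xr a b) = xr (φ a) (φ b)) ∧ (∀ a, d.Fused (L' (φ a)) ↔ d.Fused (L' a)) ∧ φ 56 = n ∧
      ∃ m : G, ∀ a, d.emb (L' (φ a)) = m * d.emb (L' a) * m⁻¹ := by
  classical
  obtain ⟨g, hg⟩ := h
  have hcent : ∀ a, g⁻¹ * d.emb (L' a) * g * d.t = d.t * (g⁻¹ * d.emb (L' a) * g) := fun a => by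
    have ht : d.t = g⁻¹ * d.emb (L' n) * g := by rw [← hg]; group
    rw [ht]
    calc g⁻¹ * d.emb (L' a) * g * (g⁻¹ * d.emb (L' n) * g) = g⁻¹ * d.emb (L' a * L' n) * g := by
          rw [map_mul]; group
      _ = g⁻¹ * d.emb (L' n * L' a) * g := by
          rw [show L' a * L' n = L' n * L' a from Subtype.ext (W.std_comm (L_mem a) (L_mem n))]
      _ = _ := by rw [map_mul]; group
  choose b hb using fun a => d.mem_range (hcent a)
  have hbmul : ∀ x y, b (xr x y) = b x * b y := fun x y => d.inj (by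
    rw [map_mul, hb, hb, hb, show L' (xr x y) = L' x * L' y from L'_mul x y, map_mul]
    group)
  let B : Subgroup W6 :=
    { carrier := Set.range fun a => (b a).1
      mul_mem' := by
        rintro _ _ ⟨x, rfl⟩ ⟨y, rfl⟩
        exact ⟨xr x y, congrArg Subtype.val (hbmul x y)⟩
      one_mem' := ⟨0, congrArg Subtype.val (show b 0 = 1 from d.inj (by
        rw [hb, map_one, show L' 0 = 1 from Subtype.ext (by decide +kernel), map_one]; group))⟩
      inv_mem' := by
        rintro _ ⟨x, rfl⟩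
        refine ⟨x, congrArg Subtype.val (eq_inv_of_mul_eq_one_left (d.inj ?_) : b x = (b x)⁻¹)⟩
        rw [map_mul, hb, map_one]
        calc g⁻¹ * d.emb (L' x) * g * (g⁻¹ * d.emb (L' x) * g) = g⁻¹ * d.emb (L' x * L' x) * g := by
              rw [map_mul]; group
          _ = 1 := by rw [L'_sq, map_one]; group }
  have hbinj : Function.Injective fun a => (b a).1 := fun x y e => L'_inj (d.inj (by
    have := congrArg d.emb (Subtype.ext e : b x = b y)
    rw [hb, hb] at this
    simpa using this))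
  have hB : ∀ w ∈ B, w * w = 1 := by
    rintro _ ⟨x, rfl⟩
    refine congrArg Subtype.val (show b x * b x = 1 from d.inj ?_)
    rw [map_mul, hb, map_one]
    calc g⁻¹ * d.emb (L' x) * g * (g⁻¹ * d.emb (L' x) * g) = g⁻¹ * d.emb (L' x * L' x) * g := by
          rw [map_mul]; group
      _ = 1 := by rw [L'_sq, map_one]; group
  have hcard : Nat.card ↥B = 64 := by
    have e : Nat.card ↥B = Nat.card (Fin 64) := (Nat.card_congr (Equiv.ofInjective _ hbinj)).symm
    rw [e, Nat.card_eq_fintype_card, Fintype.card_fin]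
  obtain ⟨σ, hσ⟩ := elementary_conj hB hcard (by rintro _ ⟨x, rfl⟩; exact (b x).2)
  -- the normalising element
  choose φ hφ using fun a => A6_eq ((hσ _).1 (⟨a, rfl⟩ : (b a).1 ∈ B))
  have hφ' : ∀ a, L' (φ a) = pm0 σ * b a * (pm0 σ)⁻¹ := fun a => Subtype.ext (hφ a)
  set k := d.emb (pm0 σ) * g⁻¹ with hk
  have hconj : ∀ a, d.emb (L' (φ a)) = k * d.emb (L' a) * k⁻¹ := fun a => by
    rw [hφ', map_mul, map_mul, map_inv, hb, hk]
    group
  have hinj : Function.Injective φ := fun x y e => L'_inj (d.inj (by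
    have h1 := hconj x
    rw [e, hconj y] at h1
    simpa using h1.symm))
  have hbij : Function.Bijective φ := Finite.injective_iff_bijective.1 hinj
  have hadd : ∀ x y, φ (xr x y) = xr (φ x) (φ y) := fun x y => L'_inj (by
    rw [show L' (xr (φ x) (φ y)) = L' (φ x) * L' (φ y) from L'_mul _ _, hφ', hφ', hφ', hbmul]
    group)
  have hF : ∀ a, d.Fused (L' (φ a)) ↔ d.Fused (L' a) := fun a => by
    constructor
    · rintro ⟨x, hx⟩
      refine ⟨k⁻¹ * x, ?_⟩
      rw [show k⁻¹ * x * d.t * (k⁻¹ * x)⁻¹ = k⁻¹ * (x * d.t * x⁻¹) * k by group, hx, hconj]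
      group
    · rintro ⟨x, hx⟩
      refine ⟨k * x, ?_⟩
      rw [hconj, ← hx]
      group
  -- move the all-flip to `n` by the inverse
  obtain ⟨ψ, hψ1, hψ2⟩ := Function.bijective_iff_has_inverse.1 hbij
  refine ⟨ψ, Function.bijective_iff_has_inverse.2 ⟨φ, hψ2, hψ1⟩, fun x y => hinj ?_, fun a => ?_, hinj ?_,
    k⁻¹, fun a => ?_⟩
  · rw [hψ2, hadd, hψ2, hψ2]
  · rw [← hF, hψ2]
  · rw [hψ2]
    refine (L'_inj (d.inj ?_)).symm
    rw [hconj, hk, L'_56, ← hg]
    have : d.emb (pm0 σ) * d.t = d.t * d.emb (pm0 σ) := by rw [← map_mul, z0_comm, map_mul]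
    rw [show d.emb (pm0 σ) * g⁻¹ * (g * d.t * g⁻¹) * (d.emb (pm0 σ) * g⁻¹)⁻¹ =
      d.emb (pm0 σ) * d.t * (d.emb (pm0 σ))⁻¹ by group, this]
    group
  · have e := hconj (ψ a)
    rw [hψ2] at e
    rw [e]
    group

/-- A fused code is reached by a symmetry of the codes preserving the fused ones. -/
theorem exists_symmetry {n : Fin 64} (h : d.Fused (L' n)) : ∃ φ : Fin 64 → Fin 64, Function.Bijective φ ∧
    (∀ a b, φ (xr a b) = xr (φ a) (φ b)) ∧ (∀ a, d.Fused (L' (φ a)) ↔ d.Fused (L' a)) ∧ φ 56 = n := by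
  obtain ⟨φ, h1, h2, h3, h4, -⟩ := d.exists_symmetry_conj h
  exact ⟨φ, h1, h2, h3, h4⟩

/-- Which codes are fused. -/
theorem selection : ∃ b : Fin 128, (b.val = 0 ∨ b.val = 1 ∨ b.val = 4 ∨ b.val = 113 ∨ b.val = 116) ∧
    ∀ n, d.Fused (L' n) ↔ sel b n = true := by
  classical
  obtain ⟨b, hb⟩ := exists_selection fun k => decide (d.Fused (L' (rep ⟨k.val + 4, by omega⟩)))
  have hrep : ∀ r : Fin 11, d.Fused (L' (rep r)) ↔ sel b (rep r) = true := by
    obtain ⟨h0, h1, h2, h3, h4⟩ := sel_rep b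
    obtain ⟨⟨r2, hr2⟩, r3, hr3⟩ := exists_root_flip
    intro r
    by_cases hr : 4 ≤ r.val
    · have hk : r = ⟨(r.val - 4) + 4, by omega⟩ := Fin.ext (by simp; omega)
      rw [hk, h4 ⟨r.val - 4, by omega⟩, hb, decide_eq_true_eq]
    · obtain ⟨_ | _ | _ | _ | r, hlt⟩ := r
      · exact iff_of_false (fun h => d.fused_one (by
          rw [show rep ⟨0, hlt⟩ = 0 from rfl] at h
          rwa [show (1 : ↥W0) = L' 0 from Subtype.ext (by decide +kernel)]))
          (by rw [show rep ⟨0, hlt⟩ = 0 from rfl, h0]; simp)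
      · exact iff_of_true (by rw [show rep ⟨1, hlt⟩ = 56 from rfl, L'_56]; exact d.fused_z0)
          (by rw [show rep ⟨1, hlt⟩ = 56 from rfl, h1])
      · exact iff_of_false (by rw [show rep ⟨2, hlt⟩ = 8 from rfl, ← hr2]; exact d.not_fused_square r2)
          (by rw [show rep ⟨2, hlt⟩ = 8 from rfl, h2]; simp)
      · exact iff_of_false (by rw [show rep ⟨3, hlt⟩ = 24 from rfl, ← hr3]; exact d.not_fused_square r3)
          (by rw [show rep ⟨3, hlt⟩ = 24 from rfl, h3]; simp)
      · exact absurd (show 4 ≤ r + 4 by omega) hr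
  have hiff : ∀ n, d.Fused (L' n) ↔ sel b n = true := fun n => by
    rw [sel_cid b n, ← hrep, ← d.fused_conj ⟨gen (wit n), mem_W0.2 (gen_par _)⟩ (L' n)]
    exact iff_of_eq (congrArg d.Fused (Subtype.ext (gen_rep n)))
  refine ⟨b, good_iff b ?_, hiff⟩
  have key : ∀ r, sel b r = true → cnt (sel b) r = cnt (sel b) 56 ∧ cnt3 (sel b) r = cnt3 (sel b) 56 := by
    intro r hr
    obtain ⟨φ, hbij, hadd, hF, rfl⟩ := d.exists_symmetry ((hiff r).2 hr)
    have hO : ∀ a, sel b (φ a) = sel b a := fun a => Bool.eq_iff_iff.2 ((hiff _).symm.trans ((hF a).trans (hiff a)))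
    exact ⟨cnt_equiv hbij hadd hO 56, cnt3_equiv hbij hadd hO 56⟩
  simp only [good, Bool.and_eq_true, List.all_eq_true, Bool.or_eq_true, Bool.not_eq_true', beq_iff_eq]
  refine ⟨fun r _ => ?_, fun r _ => ?_⟩ <;> rcases h : sel b r with _ | _
  · exact Or.inl rfl
  · exact Or.inr (key r h).1
  · exact Or.inl rfl
  · exact Or.inr (key r h).2

/-- A property of the fused elements is decided on the codes. -/
theorem fused_iff {P : W6 → Prop} (hP : ∀ σ w, P (W.pm σ * w * (W.pm σ)⁻¹) ↔ P w)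
    (h : ∀ n, d.Fused (L' n) ↔ P (L n)) (a : ↥W0) : d.Fused a ↔ a * a = 1 ∧ P a.1 := by
  have key : a * a = 1 → (d.Fused a ↔ P a.1) := by
    intro ha
    obtain ⟨σ, n, hn⟩ := invol_conj (congrArg Subtype.val ha : a.1 * a.1 = 1) (mem_W0.1 a.2)
    rw [← hP σ a.1, hn, ← h, ← d.fused_conj (pm0 σ) a]
    exact iff_of_eq (congrArg d.Fused (Subtype.ext hn))
  exact ⟨fun hf => ⟨d.fused_sq hf, (key (d.fused_sq hf)).1 hf⟩, fun ⟨ha, hp⟩ => (key ha).2 hp⟩

/-- The embedding through the twist. -/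
def twist : Dat G where
  emb := d.emb.comp theta
  inj a b h := by
    have := congrArg theta (d.inj h)
    rwa [theta_theta, theta_theta] at this
  range := by
    have e : theta z0 = z0 := theta_z0
    rw [MonoidHom.comp_apply, e, ← d.range, MonoidHom.range_comp,
      MonoidHom.range_eq_top.2 fun a => ⟨theta a, theta_theta a⟩, ← MonoidHom.range_eq_map]

theorem twist_t : d.twist.t = d.t := congrArg d.emb theta_z0

theorem twist_fused (a : ↥W0) : d.twist.Fused a ↔ d.Fused (theta a) := by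
  show (∃ g : G, g * d.twist.t * g⁻¹ = d.emb (theta a)) ↔ _
  rw [d.twist_t]
  rfl

/-- The classes of the symplectic case: the all-flip and the swaps without other flips. -/
def P7 (w : W6) : Prop := w = W.zz ∨ Kcl 2 0 w

/-- The classes of the alternating case. -/
def P27 (w : W6) : Prop := w = W.zz ∨ Kcl 2 1 w ∨ Kcl 4 1 w ∨ Kcl 6 0 w

instance : DecidablePred P7 := fun w => by unfold P7; infer_instance
instance : DecidablePred P27 := fun w => by unfold P27; infer_instance

theorem zz_conj_iff (σ : Equiv.Perm (Fin 6)) (w : W6) : W.pm σ * w * (W.pm σ)⁻¹ = W.zz ↔ w = W.zz := by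
  constructor
  · intro h
    calc w = (W.pm σ)⁻¹ * (W.pm σ * w * (W.pm σ)⁻¹) * W.pm σ := by group
      _ = W.zz := by rw [h, mul_assoc, ← W.zz_central (W.pm σ), ← mul_assoc, inv_mul_cancel, one_mul]
  · rintro rfl
    rw [W.zz_central, mul_inv_cancel_right]

theorem P7_conj (σ : Equiv.Perm (Fin 6)) (w : W6) : P7 (W.pm σ * w * (W.pm σ)⁻¹) ↔ P7 w := by
  rw [P7, P7, zz_conj_iff, Kcl_conj]

theorem P27_conj (σ : Equiv.Perm (Fin 6)) (w : W6) : P27 (W.pm σ * w * (W.pm σ)⁻¹) ↔ P27 w := by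
  rw [P27, P27, zz_conj_iff, Kcl_conj, Kcl_conj, Kcl_conj]

/-- The code of the twist. -/
def tw (n : Fin 64) : Fin 64 :=
  if (n.val.testBit 0).xor ((n.val.testBit 1).xor (n.val.testBit 2)) then xr n 56 else n

theorem theta_L : ∀ n, (W.twist (W.sgnHom (ι := Fin 6))) (L n) = L (tw n) := by decide +kernel

theorem theta_L' (n : Fin 64) : theta (L' n) = L' (tw n) := Subtype.ext (theta_L n)

theorem table0 : ∀ n, sel 0 n = true → L n = W.zz := by decide +kernel

theorem table7 : ∀ n, (sel 1 n = true ↔ P7 (L n)) ∧ (sel 4 (tw n) = true ↔ P7 (L n)) := by decide +kernel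

theorem table27 : ∀ n, (sel 116 n = true ↔ P27 (L n)) ∧ (sel 113 (tw n) = true ↔ P27 (L n)) := by decide +kernel

/-- Either the involution is isolated, or up to the twist we are in one of the two other cases. -/
theorem trichotomy :
    (∀ a, d.Fused a → a = z0) ∨
      (∃ d' : Dat G, d'.t = d.t ∧ ∀ a, d'.Fused a ↔ a * a = 1 ∧ P7 a.1) ∨
      ∃ d' : Dat G, d'.t = d.t ∧ ∀ a, d'.Fused a ↔ a * a = 1 ∧ P27 a.1 := by
  obtain ⟨b, hb, hsel⟩ := d.selection
  have htw : ∀ n, d.twist.Fused (L' n) ↔ sel b (tw n) = true := fun n => by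
    rw [d.twist_fused, theta_L', hsel]
  rcases hb with h | h | h | h | h
  · left
    intro a ha
    have hb0 : b = 0 := Fin.ext h
    obtain ⟨σ, n, hn⟩ := invol_conj (congrArg Subtype.val (d.fused_sq ha) : a.1 * a.1 = 1) (mem_W0.1 a.2)
    have hf : d.Fused (L' n) := by
      rw [show L' n = pm0 σ * a * (pm0 σ)⁻¹ from Subtype.ext hn.symm]
      exact (d.fused_conj _ _).2 ha
    rw [hsel, hb0] at hf
    rw [table0 n hf, zz_conj_iff] at hn
    exact Subtype.ext hn
  · exact Or.inr (Or.inl ⟨d, rfl, d.fused_iff P7_conj fun n => by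
      rw [hsel, show b = 1 from Fin.ext h]; exact (table7 n).1⟩)
  · exact Or.inr (Or.inl ⟨d.twist, d.twist_t, d.twist.fused_iff P7_conj fun n => by
      rw [htw, show b = 4 from Fin.ext h]; exact (table7 n).2⟩)
  · exact Or.inr (Or.inr ⟨d.twist, d.twist_t, d.twist.fused_iff P27_conj fun n => by
      rw [htw, show b = 113 from Fin.ext h]; exact (table27 n).2⟩)
  · exact Or.inr (Or.inr ⟨d, rfl, d.fused_iff P27_conj fun n => by
      rw [hsel, show b = 116 from Fin.ext h]; exact (table27 n).1⟩)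

end Dat

end Cfsg.Agent.S3298Fus
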