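import Cfsg.Agent.Lib.SylClasses.Standard
import Cfsg.Agent.Lib.AltClasses.Fusion

/-!
Signed permutations of six points with even flip parity (the centraliser of a fixed-point-free involution among
the even permutations of twelve points): involutions, one elementary subgroup of order 64, square roots.
-/

set_option autoImplicit false
set_option linter.unusedSectionVars false
set_option linter.style.haveILetI false
set_option maxRecDepth 100000

namespace Cfsg.Agent.S3298Fus

open SylClasses

/-- Signed permutations of six points. -/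
abbrev W6 := W (Fin 6)

/-- The even flip parity. -/
abbrev W0 : Subgroup W6 := (W.parHom (ι := Fin 6)).ker

theorem mem_W0 {w : W6} : w ∈ W0 ↔ W.par w = 0 := by
  rw [MonoidHom.mem_ker]
  exact Multiplicative.toAdd.injective.eq_iff.symm

theorem par_pm (σ : Equiv.Perm (Fin 6)) : W.par (W.pm σ) = 0 := by simp [W.par]

theorem par_zz6 : W.par (W.zz : W6) = 0 := by decide

/-- The central involution. -/
def z0 : ↥W0 := ⟨W.zz, mem_W0.2 par_zz6⟩

/-- A permutation of the points. -/
def pm0 (σ : Equiv.Perm (Fin 6)) : ↥W0 := ⟨W.pm σ, mem_W0.2 (par_pm σ)⟩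

theorem z0_comm (a : ↥W0) : a * z0 = z0 * a := Subtype.ext (W.zz_central a.1)

/-- The partner in the blocks. -/
def nu : Fin 6 → Fin 6 := ![1, 0, 3, 2, 5, 4]

theorem nu_invol : Function.Involutive nu := by unfold Function.Involutive; decide

/-- The standard elementary subgroup. -/
abbrev A6 : Subgroup W6 := W.std nu nu_invol

/-- The swapped points of a code. -/
def swp (n : Fin 64) (i : Fin 6) : Fin 6 := if n.val.testBit (i.val / 2) then nu i else i

theorem swp_invol : ∀ n, Function.Involutive (swp n) := by unfold Function.Involutive; decide +kernel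

/-- The element of a code. -/
def L (n : Fin 64) : W6 := ⟨fun i => if n.val.testBit (3 + i.val / 2) then 1 else 0, (swp_invol n).toPerm⟩

theorem L_mul : ∀ a b : Fin 64, L (Fin.ofNat 64 (a.val ^^^ b.val)) = L a * L b := by decide +kernel

theorem L_inj : Function.Injective L := by
  have h : ∀ a b : Fin 64, L a = L b → a = b := by decide +kernel
  exact fun a b => h a b

theorem L_par : ∀ n, W.par (L n) = 0 := by decide +kernel

theorem L_mem : ∀ n, L n ∈ A6 := by
  have h : ∀ n, W.InvVec nu (L n).v ∧ ∀ i, (L n).p i = i ∨ (L n).p i = nu i := by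
    unfold W.InvVec
    decide +kernel
  exact h

theorem A6_eq {w : W6} (h : w ∈ A6) : ∃ n, L n = w := by
  have hb : Function.Bijective (fun n => (⟨L n, L_mem n⟩ : ↥A6)) := by
    refine (Nat.bijective_iff_injective_and_card _).2 ⟨fun a b e => L_inj (congrArg Subtype.val e), ?_⟩
    rw [W.card_std, Nat.card_eq_fintype_card, Fintype.card_fin, Fintype.card_fin]
    norm_num
  obtain ⟨n, hn⟩ := hb.2 ⟨w, h⟩
  exact ⟨n, congrArg Subtype.val hn⟩

/-- The element of a code in the parity kernel. -/
def L' (n : Fin 64) : ↥W0 := ⟨L n, mem_W0.2 (L_par n)⟩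

theorem L'_inj : Function.Injective L' := fun _ _ e => L_inj (congrArg Subtype.val e)

theorem L'_mul (a b : Fin 64) : L' (Fin.ofNat 64 (a.val ^^^ b.val)) = L' a * L' b := Subtype.ext (L_mul a b)

theorem L'_56 : L' 56 = z0 := Subtype.ext (by decide +kernel)

theorem L'_sq (n : Fin 64) : L' n * L' n = 1 := Subtype.ext (W.std_sq (L_mem n))

/-- A fixed-point-free involution of six points pairs them. -/
theorem exists_fpf_pairing {μ : Fin 6 → Fin 6} (hμ : Function.Involutive μ) (hf : ∀ i, μ i ≠ i) :
    ∃ σ : Equiv.Perm (Fin 6), ∀ i, σ (μ i) = nu (σ i) := by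
  classical
  let κ : Fin 6 → Finset (Fin 6) := fun i => {i, μ i}
  have heven : ∀ k, Even (Finset.univ.filter fun i => κ i = k).card := by
    intro k
    by_cases h : ∃ i, κ i = k
    · obtain ⟨i, rfl⟩ := h
      have e : (Finset.univ.filter fun j => κ j = κ i) = {i, μ i} := by
        ext j
        simp only [Finset.mem_filter, Finset.mem_univ, true_and, κ]
        constructor
        · intro h; rw [← h]; simp
        · intro h
          rcases Finset.mem_insert.1 h with rfl | h
          · rfl
          · rw [Finset.mem_singleton] at h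
            subst h
            rw [hμ, Finset.pair_comm]
      rw [e, Finset.card_pair (hf i).symm]
      exact even_two
    · push Not at h
      simp [h]
  obtain ⟨f, hf'⟩ := AltClasses.exists_pairing κ heven (m := 3) (by simp)
  let e0 : Fin 3 × Bool ≃ Fin 6 :=
    { toFun := fun q => ⟨2 * q.1.val + (if q.2 then 1 else 0), by split_ifs <;> omega⟩
      invFun := fun i => (⟨i.val / 2, by omega⟩, decide (i.val % 2 = 1))
      left_inv := by decide
      right_inv := by decide }
  have hnu : ∀ i b, nu (e0 (i, b)) = e0 (i, !b) := by decide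
  refine ⟨f.symm.trans e0, fun a => ?_⟩
  obtain ⟨⟨i, b⟩, rfl⟩ := f.surjective a
  have hk : μ (f (i, b)) = f (i, !b) := by
    have h1 : κ (f (i, !b)) = κ (f (i, b)) := by cases b <;> simp [hf' i]
    have h2 : f (i, !b) ∈ κ (f (i, b)) := h1 ▸ Finset.mem_insert_self _ _
    rcases Finset.mem_insert.1 h2 with h | h
    · simp at h
    · exact (Finset.mem_singleton.1 h).symm
  simp [hk, hnu]

/-- Conjugation by a permutation of the points. -/
theorem conj_pm_v (σ : Equiv.Perm (Fin 6)) (w : W6) (i : Fin 6) :
    (W.pm σ * w * (W.pm σ)⁻¹).v i = w.v (σ.symm i) := by simp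

theorem conj_pm_p (σ : Equiv.Perm (Fin 6)) (w : W6) (i : Fin 6) :
    (W.pm σ * w * (W.pm σ)⁻¹).p i = σ (w.p (σ.symm i)) := by
  simp [Equiv.Perm.inv_def]

/-- Every elementary subgroup of order 64 of the parity kernel is conjugate to the standard one. -/
theorem elementary_conj {B : Subgroup W6} (hsq : ∀ b ∈ B, b * b = 1) (hcard : Nat.card B = 64) (hB : B ≤ W0) :
    ∃ σ : Equiv.Perm (Fin 6), ∀ b, b ∈ B ↔ W.pm σ * b * (W.pm σ)⁻¹ ∈ A6 := by
  obtain ⟨μ, hμ, rfl⟩ := W.exists_std hsq (by rw [hcard, Fintype.card_fin]; norm_num)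
  have hf : ∀ i, μ i ≠ i := by
    intro i hi
    have hm : W.fl (Pi.single i (1 : ZMod 2)) ∈ W.std μ hμ := W.fl_mem_std.2 fun j => by
      rcases eq_or_ne j i with rfl | h
      · rw [hi]
      · rw [Pi.single_eq_of_ne h, Pi.single_eq_of_ne fun e => h (hμ.injective (e.trans hi.symm))]
    have := mem_W0.1 (hB hm)
    simp [W.par] at this
  obtain ⟨σ, hσ⟩ := exists_fpf_pairing hμ hf
  refine ⟨σ, fun b => ?_⟩
  rw [W.mem_std, W.mem_std]
  constructor
  · rintro ⟨hv, hp⟩
    refine ⟨fun i => ?_, fun i => ?_⟩
    · obtain ⟨j, rfl⟩ := σ.surjective i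
      rw [conj_pm_v, conj_pm_v, ← hσ, Equiv.symm_apply_apply, Equiv.symm_apply_apply, hv]
    · obtain ⟨j, rfl⟩ := σ.surjective i
      rw [conj_pm_p, Equiv.symm_apply_apply, ← hσ]
      rcases hp j with h | h
      · exact Or.inl (congrArg σ h)
      · exact Or.inr (congrArg σ h)
  · rintro ⟨hv, hp⟩
    refine ⟨fun j => ?_, fun j => ?_⟩
    · have := hv (σ j)
      rwa [conj_pm_v, conj_pm_v, ← hσ, Equiv.symm_apply_apply, Equiv.symm_apply_apply] at this
    · have := hp (σ j)
      rw [conj_pm_p, Equiv.symm_apply_apply, ← hσ] at this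
      rcases this with h | h
      · exact Or.inl (σ.injective h)
      · exact Or.inr (σ.injective h)

theorem F_cases : ∀ x : ZMod 2, x = 0 ∨ x = 1 := by decide

theorem invol_facts {w : W6} (hw : w * w = 1) :
    Function.Involutive w.p ∧ ∀ i, w.v (w.p i) = w.v i := by
  have hp : Function.Involutive w.p := fun i => congrArg (fun q : W6 => q.p i) hw
  refine ⟨hp, fun i => ?_⟩
  have h0 := congrFun (congrArg W.v hw) i
  rw [W.mul_v, Pi.add_apply, Function.comp_apply, (Equiv.symm_apply_eq _).2 (hp i).symm] at h0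
  exact (CharTwo.add_eq_zero.1 h0).symm

/-- Every involution of the parity kernel is conjugate into the standard subgroup by a permutation. -/
theorem invol_conj {w : W6} (hw : w * w = 1) (hpar : W.par w = 0) :
    ∃ σ : Equiv.Perm (Fin 6), ∃ n, W.pm σ * w * (W.pm σ)⁻¹ = L n := by
  classical
  obtain ⟨hp, hv⟩ := invol_facts hw
  -- pair the fixed points of equal flips
  let κ : Fin 6 → Finset (Fin 6) × ZMod 2 := fun i => (if w.p i = i then ∅ else {i, w.p i}, w.v i)
  have hfix : ∀ c : ZMod 2, Even (Finset.univ.filter fun i => w.p i = i ∧ w.v i = c).card := by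
    have hall : Even (Finset.univ.filter fun i => w.p i = i).card := by
      have h := AltClasses.sum_invol hp (v := fun _ => (1 : ZMod 2)) fun _ => rfl
      rw [Finset.sum_const, Finset.sum_const, nsmul_one, nsmul_one, Finset.card_univ, Fintype.card_fin] at h
      rw [← ZMod.natCast_eq_zero_iff_even, ← h]
      rfl
    have hone : Even (Finset.univ.filter fun i => w.p i = i ∧ w.v i = 1).card := by
      rw [← ZMod.natCast_eq_zero_iff_even]
      refine Eq.trans ?_ ((AltClasses.sum_invol hp hv).symm.trans hpar)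
      rw [Finset.card_eq_sum_ones, Nat.cast_sum, Finset.sum_filter, Finset.sum_filter]
      refine Finset.sum_congr rfl fun i _ => ?_
      rcases F_cases (w.v i) with h | h <;> simp [h]
    intro c
    rcases F_cases c with rfl | rfl
    · have h2 := Finset.card_filter_add_card_filter_not (s := Finset.univ.filter fun i => w.p i = i)
        (fun i => w.v i = 1)
      rw [Finset.filter_filter, Finset.filter_filter,
        Finset.filter_congr (q := fun i => w.p i = i ∧ w.v i = 0) fun i _ =>
          and_congr_right fun _ => ⟨fun h => (F_cases _).resolve_right h, fun h => h ▸ zero_ne_one⟩] at h2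
      rw [← h2, Nat.even_add] at hall
      exact hall.1 hone
    · exact hone
  have heven : ∀ k, Even (Finset.univ.filter fun i => κ i = k).card := by
    rintro ⟨s, c⟩
    by_cases h : ∃ i, w.p i ≠ i ∧ κ i = (s, c)
    · obtain ⟨i, hi, hk⟩ := h
      simp only [κ, if_neg hi, Prod.mk.injEq] at hk
      obtain ⟨rfl, rfl⟩ := hk
      have e : (Finset.univ.filter fun j => κ j = ({i, w.p i}, w.v i)) = {i, w.p i} := by
        ext j
        simp only [Finset.mem_filter, Finset.mem_univ, true_and, κ, Prod.mk.injEq]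
        constructor
        · rintro ⟨h, -⟩
          split_ifs at h with hj
          · exact absurd h.symm (Finset.insert_ne_empty _ _)
          · rw [← h]; simp
        · intro h
          rcases Finset.mem_insert.1 h with rfl | h
          · exact ⟨if_neg hi, rfl⟩
          · rw [Finset.mem_singleton] at h
            subst h
            refine ⟨?_, hv i⟩
            rw [if_neg (fun e => hi (w.p.injective e)), hp, Finset.pair_comm]
      rw [e, Finset.card_pair fun e => hi e.symm]
      exact even_two
    · push Not at h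
      by_cases hs : s = ∅
      · rw [show (Finset.univ.filter fun i => κ i = (s, c)) =
          Finset.univ.filter fun i => w.p i = i ∧ w.v i = c from
            Finset.filter_congr fun i _ => ⟨fun e => ⟨by_contra fun hi => h i hi e, congrArg Prod.snd e⟩,
              fun e => by simp [κ, e.1, e.2, hs]⟩]
        exact hfix c
      · rw [Finset.filter_eq_empty_iff.2 fun i _ e => hs ?_]
        · simp
        · have hi : w.p i = i := by_contra fun hi => h i hi e
          simpa [κ, hi] using (congrArg Prod.fst e).symm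
  obtain ⟨f, hf⟩ := AltClasses.exists_pairing κ heven (m := 3) (by simp)
  let μ : Fin 6 → Fin 6 := fun a => f ((f.symm a).1, !(f.symm a).2)
  have hμ : Function.Involutive μ := fun a => by simp [μ]
  have hμne : ∀ a, μ a ≠ a := fun a e => by
    have := congrArg (fun x => (f.symm x).2) e
    simp [μ] at this
  have hκ : ∀ a, κ (μ a) = κ a := fun a => by
    obtain ⟨⟨i, b⟩, rfl⟩ := f.surjective a
    cases b <;> simp [μ, hf i]
  obtain ⟨σ, hσ⟩ := exists_fpf_pairing hμ hμne
  have hmem : W.pm σ * w * (W.pm σ)⁻¹ ∈ A6 := by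
    refine ⟨fun i => ?_, fun i => ?_⟩
    · obtain ⟨j, rfl⟩ := σ.surjective i
      rw [conj_pm_v, conj_pm_v, ← hσ, Equiv.symm_apply_apply, Equiv.symm_apply_apply]
      exact congrArg Prod.snd (hκ j)
    · obtain ⟨j, rfl⟩ := σ.surjective i
      rw [conj_pm_p, Equiv.symm_apply_apply, ← hσ]
      by_cases hj : w.p j = j
      · exact Or.inl (congrArg σ hj)
      · refine Or.inr (congrArg σ ?_)
        have h1 := congrArg Prod.fst (hκ j)
        simp only [κ, if_neg hj] at h1
        split_ifs at h1 with h2
        · exact absurd h1.symm (Finset.insert_ne_empty _ _)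
        · have h3 : μ j ∈ ({j, w.p j} : Finset (Fin 6)) := h1 ▸ Finset.mem_insert_self _ _
          rcases Finset.mem_insert.1 h3 with h3 | h3
          · exact absurd h3 (hμne j)
          · exact (Finset.mem_singleton.1 h3).symm
  obtain ⟨n, hn⟩ := A6_eq hmem
  exact ⟨σ, n, hn.symm⟩

/-- The all-flip has no square root in the parity kernel. -/
theorem no_root (s : ↥W0) : s * s ≠ z0 := by
  intro h
  have hs : s.1 * s.1 = W.zz := congrArg Subtype.val h
  have hp : Function.Involutive s.1.p := fun i => congrArg (fun q : W6 => q.p i) hs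
  have hv : ∀ i, s.1.v i + s.1.v (s.1.p i) = 1 := fun i => by
    have h0 := congrFun (congrArg W.v hs) i
    rwa [W.mul_v, Pi.add_apply, Function.comp_apply, (Equiv.symm_apply_eq _).2 (hp i).symm] at h0
  have hne : ∀ i, s.1.p i ≠ i := fun i e => by
    have := hv i
    rw [e, CharTwo.add_self_eq_zero] at this
    exact zero_ne_one this
  obtain ⟨σ, hσ⟩ := exists_fpf_pairing hp hne
  have h6 : ∀ i, s.1.v (σ.symm i) + s.1.v (σ.symm (nu i)) = 1 := fun i => by
    obtain ⟨j, rfl⟩ := σ.surjective i
    rw [← hσ, Equiv.symm_apply_apply, Equiv.symm_apply_apply]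
    exact hv j
  have hsum : ∀ u : Fin 6 → ZMod 2, (∀ i, u i + u (nu i) = 1) → ∑ i, u i = 1 := by decide +kernel
  have h1 := hsum (fun i => s.1.v (σ.symm i)) h6
  rw [Equiv.sum_comp σ.symm s.1.v] at h1
  have := mem_W0.1 s.2
  rw [W.par, h1] at this
  exact one_ne_zero this

/-- Two flips and four flips have square roots. -/
theorem exists_root_flip :
    (∃ r : ↥W0, r * r = L' 8) ∧ ∃ r : ↥W0, r * r = L' 24 :=
  ⟨⟨⟨⟨![1, 0, 1, 0, 0, 0], Equiv.swap 0 1⟩, mem_W0.2 (by decide +kernel)⟩, Subtype.ext (by decide +kernel)⟩,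
    ⟨⟨⟨![1, 0, 1, 0, 0, 0], Equiv.swap 0 1 * Equiv.swap 2 3⟩, mem_W0.2 (by decide +kernel)⟩,
      Subtype.ext (by decide +kernel)⟩⟩

/-- The elements moving exactly `m` points with flip `c` on every fixed point. -/
def Kcl (m : ℕ) (c : ZMod 2) (w : W6) : Prop :=
  (Finset.univ.filter fun i => w.p i ≠ i).card = m ∧ ∀ i, w.p i = i → w.v i = c

instance (m : ℕ) (c : ZMod 2) : DecidablePred (Kcl m c) := fun w => by unfold Kcl; infer_instance

theorem Kcl_conj {m : ℕ} {c : ZMod 2} (σ : Equiv.Perm (Fin 6)) (w : W6) :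
    Kcl m c (W.pm σ * w * (W.pm σ)⁻¹) ↔ Kcl m c w := by
  have hiff : ∀ j, (W.pm σ * w * (W.pm σ)⁻¹).p (σ j) = σ j ↔ w.p j = j := fun j => by
    rw [conj_pm_p, Equiv.symm_apply_apply]
    exact σ.injective.eq_iff
  have hc : (Finset.univ.filter fun i => (W.pm σ * w * (W.pm σ)⁻¹).p i ≠ i).card =
      (Finset.univ.filter fun i => w.p i ≠ i).card := by
    refine (Finset.card_equiv σ fun j => ?_).symm
    simp only [Finset.mem_filter, Finset.mem_univ, true_and]
    exact not_congr (hiff j).symm
  rw [Kcl, Kcl, hc]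
  refine and_congr_right fun _ => ⟨fun h j hj => ?_, fun h i hi => ?_⟩
  · have := h (σ j) ((hiff j).2 hj)
    rwa [conj_pm_v, Equiv.symm_apply_apply] at this
  · obtain ⟨j, rfl⟩ := σ.surjective i
    rw [conj_pm_v, Equiv.symm_apply_apply]
    exact h j ((hiff j).1 hi)

theorem sgn_zz : W.sgnHom (W.zz : W6) = 1 := by decide +kernel

/-- The twist by the sign of the permutation. -/
def theta : ↥W0 →* ↥W0 :=
  ((W.twist (W.sgnHom (ι := Fin 6))).comp W0.subtype).codRestrict W0 fun a => mem_W0.2 (by
    have h := mem_W0.1 a.2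
    show ∑ i, (a.1.v i + (W.sgnHom a.1).toAdd) = 0
    rw [Finset.sum_add_distrib, Finset.sum_const, Finset.card_univ, Fintype.card_fin, ← W.par, h, zero_add]
    rcases F_cases (W.sgnHom a.1).toAdd with e | e <;> rw [e] <;> decide)

theorem theta_theta (a : ↥W0) : theta (theta a) = a := Subtype.ext (W.twist_twist _ sgn_zz a.1)

theorem theta_z0 : theta z0 = z0 := Subtype.ext (W.twist_zz _ sgn_zz)

end Cfsg.Agent.S3298Fus
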