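import Cfsg.Agent.Lib.S3298Fus.Model
import Mathlib.Data.List.FinRange
import Mathlib.Algebra.BigOperators.Group.List.Basic

/-!
The finite problem of the fusion: classes of codes under the block permutations and even flips of blocks, and
the unions of classes that pass the two incidence counts.
-/

set_option autoImplicit false
set_option maxRecDepth 100000

namespace Cfsg.Agent.S3298Fus

open SylClasses

/-- The block permutations. -/
def blk : Fin 6 → Equiv.Perm (Fin 6) :=
  ![1, Equiv.swap 0 2 * Equiv.swap 1 3, Equiv.swap 2 4 * Equiv.swap 3 5, Equiv.swap 0 4 * Equiv.swap 1 5,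
    Equiv.swap 0 2 * Equiv.swap 1 3 * (Equiv.swap 2 4 * Equiv.swap 3 5),
    Equiv.swap 2 4 * Equiv.swap 3 5 * (Equiv.swap 0 2 * Equiv.swap 1 3)]

/-- The block permutations followed by even flips of blocks. -/
def gen (k : Fin 24) : W6 :=
  W.pm (blk ⟨k.val / 4, by omega⟩) *
    W.fl (![(0 : Fin 6 → ZMod 2), ![1, 0, 1, 0, 0, 0], ![1, 0, 0, 0, 1, 0], ![0, 0, 1, 0, 1, 0]]
      ⟨k.val % 4, by omega⟩)

theorem gen_par : ∀ k, W.par (gen k) = 0 := by decide +kernel

/-- The representatives of the classes. -/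
def rep : Fin 11 → Fin 64 := ![0, 56, 8, 24, 1, 17, 49, 3, 35, 7, 15]

/-- The class of a code. -/
def cid (n : Fin 64) : Fin 11 :=
  Fin.ofNat 11 (([0, 4, 4, 7, 4, 7, 7, 9, 2, 4, 5, 7, 5, 7, 8, 10, 2, 5, 4, 7, 5, 8, 7, 10, 3, 5, 5, 7, 6, 8, 8, 9, 2, 5, 5, 8, 4, 7, 7, 10, 3, 5, 6, 8, 5, 7, 8, 9, 3, 6, 5, 8, 5, 8, 7, 9, 1, 6, 6, 8, 6, 8, 8, 10] : List Nat).getD n.val 0)

/-- A map to the representative. -/
def wit (n : Fin 64) : Fin 24 :=
  Fin.ofNat 24 (([0, 0, 4, 0, 12, 8, 12, 0, 0, 1, 4, 2, 16, 9, 12, 0, 4, 0, 5, 3, 12, 8, 13, 1, 0, 1, 5, 1, 12, 9, 13, 1, 12, 8, 20, 0, 14, 11, 14, 2, 8, 9, 4, 2, 18, 10, 14, 2, 12, 0, 21, 3, 14, 11, 15, 3, 0, 1, 5, 1, 14, 10, 15, 3] : List Nat).getD n.val 0)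

theorem gen_rep : ∀ n, gen (wit n) * L n * (gen (wit n))⁻¹ = L (rep (cid n)) := by decide +kernel

/-- The sum of two codes. -/
def xr (a b : Fin 64) : Fin 64 := Fin.ofNat 64 (a.val ^^^ b.val)

/-- The set of a selection of the seven classes. -/
def mask (b : Fin 128) : Nat :=
  (72057594037927936 : Nat) ||| (if b.val.testBit 0 then 68719739414 else 0) ||| (if b.val.testBit 1 then 5649316615164928 else 0) |||
    (if b.val.testBit 2 then 1585834417102782464 else 0) ||| (if b.val.testBit 3 then 18049995337377896 else 0) |||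
    (if b.val.testBit 4 then 7505327979822596096 else 0) ||| (if b.val.testBit 5 then 36169536654803072 else 0) |||
    (if b.val.testBit 6 then 9223372586619011072 else 0)

/-- Membership in a selection. -/
def sel (b : Fin 128) (n : Fin 64) : Bool := (mask b).testBit n.val

theorem sel_cid : ∀ b n, sel b n = sel b (rep (cid n)) := by decide +kernel

theorem sel_rep : ∀ b, sel b 0 = false ∧ sel b 56 = true ∧ sel b 8 = false ∧ sel b 24 = false ∧
    ∀ k : Fin 7, sel b (rep ⟨k.val + 4, by omega⟩) = b.val.testBit k.val := by decide +kernel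

theorem exists_selection : ∀ f : Fin 7 → Bool, ∃ b : Fin 128, ∀ k : Fin 7, b.val.testBit k.val = f k := by
  decide +kernel

/-- The number of ways to write a code as a sum of two members. -/
def cnt (O : Fin 64 → Bool) (x : Fin 64) : Nat := (List.finRange 64).countP fun p => O p && O (xr x p)

/-- The number of ways to write a code as a sum of three members. -/
def cnt3 (O : Fin 64 → Bool) (x : Fin 64) : Nat :=
  ((List.finRange 64).map fun p => if O p then cnt O (xr x p) else 0).sum

theorem cnt_equiv {O : Fin 64 → Bool} {φ : Fin 64 → Fin 64} (hφ : Function.Bijective φ)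
    (hadd : ∀ a b, φ (xr a b) = xr (φ a) (φ b)) (hO : ∀ a, O (φ a) = O a) (x : Fin 64) :
    cnt O (φ x) = cnt O x := by
  have hperm : ((List.finRange 64).map φ).Perm (List.finRange 64) :=
    List.perm_of_nodup_nodup_toFinset_eq ((List.nodup_finRange 64).map hφ.1) (List.nodup_finRange 64)
      (Finset.ext fun a => by simp [hφ.2 a])
  unfold cnt
  rw [← hperm.countP_eq, List.countP_map]
  refine List.countP_congr fun p _ => ?_
  simp [← hadd, hO]

theorem cnt3_equiv {O : Fin 64 → Bool} {φ : Fin 64 → Fin 64} (hφ : Function.Bijective φ)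
    (hadd : ∀ a b, φ (xr a b) = xr (φ a) (φ b)) (hO : ∀ a, O (φ a) = O a) (x : Fin 64) :
    cnt3 O (φ x) = cnt3 O x := by
  have hperm : ((List.finRange 64).map φ).Perm (List.finRange 64) :=
    List.perm_of_nodup_nodup_toFinset_eq ((List.nodup_finRange 64).map hφ.1) (List.nodup_finRange 64)
      (Finset.ext fun a => by simp [hφ.2 a])
  unfold cnt3
  rw [← (hperm.map _).sum_eq, List.map_map]
  refine congrArg List.sum (List.map_congr_left fun p _ => ?_)
  simp [← hadd, hO, cnt_equiv hφ hadd hO]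

/-- Both counts agree on the representatives of a selection with those of the all-flip. -/
def good (O : Fin 64 → Bool) : Bool :=
  ([1, 17, 49, 3, 35, 7, 15] : List (Fin 64)).all (fun r => !O r || cnt O r == cnt O 56) &&
    ([1, 17, 49, 3, 35, 7, 15] : List (Fin 64)).all (fun r => !O r || cnt3 O r == cnt3 O 56)

theorem good_iff : ∀ b, good (sel b) = true → b.val = 0 ∨ b.val = 1 ∨ b.val = 4 ∨ b.val = 113 ∨ b.val = 116 := by
  decide +kernel

end Cfsg.Agent.S3298Fus
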